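import Mathlib

universe u
open CategoryTheory CategoryTheory.Limits AlgebraicGeometry

namespace Groth.Agent.Lib.Helper6.GenFib

variable {T : Scheme.{u}} [IsIntegral T]

instance quasiCompact_fromSpecStalk_genericPoint :
    QuasiCompact (T.fromSpecStalk (genericPoint T)) := by
  constructor
  intro U _ _
  have : Finite (Spec (T.presheaf.stalk (genericPoint T))) :=
    inferInstanceAs (Finite (PrimeSpectrum T.functionField))
  exact (Set.toFinite _).isCompact

instance isDominant_fromSpecStalk_genericPoint :
    IsDominant (T.fromSpecStalk (genericPoint T)) := by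
  constructor
  rw [DenseRange, Scheme.range_fromSpecStalk]
  have h : Dense ({genericPoint T} : Set T) := by
    rw [dense_iff_closure_eq]
    exact (genericPoint_spec T).def
  exact h.mono (by
    rintro _ rfl
    exact specializes_rfl)

instance isSchemeTheoreticallyDominant_fromSpecStalk_genericPoint :
    IsSchemeTheoreticallyDominant (T.fromSpecStalk (genericPoint T)) :=
  .of_isDominant _

/-- The generic fibre of a flat morphism to an integral scheme is scheme-theoretically dominant. -/
instance isSchemeTheoreticallyDominant_fst {Y : Scheme.{u}} (pY : Y ⟶ T) [Flat pY] :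
    IsSchemeTheoreticallyDominant (pullback.fst pY (T.fromSpecStalk (genericPoint T))) :=
  inferInstance

instance quasiCompact_fst {Y : Scheme.{u}} (pY : Y ⟶ T) :
    QuasiCompact (pullback.fst pY (T.fromSpecStalk (genericPoint T))) :=
  inferInstance

end Groth.Agent.Lib.Helper6.GenFib

namespace Groth.Agent.Lib.Helper6.GenFib

/-- Two morphisms into a separated `S`-scheme agreeing after composition with a
scheme-theoretically dominant morphism are equal. -/
lemma ext_of_isSchemeTheoreticallyDominant {W P Z S : Scheme.{u}} (w : W ⟶ P)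
    [IsSchemeTheoreticallyDominant w] {a b : P ⟶ Z} (s : Z ⟶ S) [IsSeparated s]
    (h : a ≫ s = b ≫ s) (hw : w ≫ a = w ≫ b) : a = b := by
  let X' : Over S := Over.mk (a ≫ s)
  let Y' : Over S := Over.mk s
  let U' : Over S := Over.mk (w ≫ a ≫ s)
  let f' : X' ⟶ Y' := Over.homMk a
  let g' : X' ⟶ Y' := Over.homMk b (by simpa [X', Y'] using h.symm)
  let ι' : U' ⟶ X' := Over.homMk w
  have : IsSeparated Y'.hom := ‹_›
  have hιfg : ι' ≫ f' = ι' ≫ g' := by ext1; exact hw
  have hlift : (equalizer.lift ι' hιfg).left ≫ (equalizer.ι f' g').left = w := by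
    rw [← Over.comp_left, equalizer.lift_ι]; rfl
  have hker : (equalizer.ι f' g').left.ker = ⊥ := by
    rw [← le_bot_iff, ← Scheme.Hom.ker_eq_bot w, ← hlift, Scheme.Hom.ker_comp,
      ← Scheme.IdealSheafData.map_bot]
    exact Scheme.IdealSheafData.map_mono _ bot_le
  have := (IsClosedImmersion.isIso_iff_ker_eq_bot (f := (equalizer.ι f' g').left)).mpr hker
  rw [← cancel_epi (equalizer.ι f' g').left]
  exact congr($(equalizer.condition f' g').left)

end Groth.Agent.Lib.Helper6.GenFib
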